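import Cfsg.Agent.Lib.H17.SuzU43b.Lower
import Cfsg.Agent.Lib.H17.SuzU43b.OrbChk

set_option autoImplicit false
set_option maxRecDepth 100000

/-! # Orbits of the subgroup on its cosets, SuzU43b (generated) -/

namespace Cfsg.Agent.Lib.H17.SuzU43b

open Cfsg.Spor Cfsg.Agent.Lib.H17.CosetCert Cfsg.Agent.Lib.H17.CoxGlue Cfsg.Agent.Lib.H17.SuzGlue

theorem oclosedL0 : ∀ i < 22880, tb omask0 i = true → ∀ ts ∈ sgT, tb omask0 (applyTG L ts i) = true := by
  intro i hi
  have hc : i / 500 < 46 := by omega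
  interval_cases hq : i / 500
  · exact checkClosedG_sound L _ _ _ _ oclosed0_0 i (by omega) (by omega)
  · exact checkClosedG_sound L _ _ _ _ oclosed0_1 i (by omega) (by omega)
  · exact checkClosedG_sound L _ _ _ _ oclosed0_2 i (by omega) (by omega)
  · exact checkClosedG_sound L _ _ _ _ oclosed0_3 i (by omega) (by omega)
  · exact checkClosedG_sound L _ _ _ _ oclosed0_4 i (by omega) (by omega)
  · exact checkClosedG_sound L _ _ _ _ oclosed0_5 i (by omega) (by omega)
  · exact checkClosedG_sound L _ _ _ _ oclosed0_6 i (by omega) (by omega)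
  · exact checkClosedG_sound L _ _ _ _ oclosed0_7 i (by omega) (by omega)
  · exact checkClosedG_sound L _ _ _ _ oclosed0_8 i (by omega) (by omega)
  · exact checkClosedG_sound L _ _ _ _ oclosed0_9 i (by omega) (by omega)
  · exact checkClosedG_sound L _ _ _ _ oclosed0_10 i (by omega) (by omega)
  · exact checkClosedG_sound L _ _ _ _ oclosed0_11 i (by omega) (by omega)
  · exact checkClosedG_sound L _ _ _ _ oclosed0_12 i (by omega) (by omega)
  · exact checkClosedG_sound L _ _ _ _ oclosed0_13 i (by omega) (by omega)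
  · exact checkClosedG_sound L _ _ _ _ oclosed0_14 i (by omega) (by omega)
  · exact checkClosedG_sound L _ _ _ _ oclosed0_15 i (by omega) (by omega)
  · exact checkClosedG_sound L _ _ _ _ oclosed0_16 i (by omega) (by omega)
  · exact checkClosedG_sound L _ _ _ _ oclosed0_17 i (by omega) (by omega)
  · exact checkClosedG_sound L _ _ _ _ oclosed0_18 i (by omega) (by omega)
  · exact checkClosedG_sound L _ _ _ _ oclosed0_19 i (by omega) (by omega)
  · exact checkClosedG_sound L _ _ _ _ oclosed0_20 i (by omega) (by omega)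
  · exact checkClosedG_sound L _ _ _ _ oclosed0_21 i (by omega) (by omega)
  · exact checkClosedG_sound L _ _ _ _ oclosed0_22 i (by omega) (by omega)
  · exact checkClosedG_sound L _ _ _ _ oclosed0_23 i (by omega) (by omega)
  · exact checkClosedG_sound L _ _ _ _ oclosed0_24 i (by omega) (by omega)
  · exact checkClosedG_sound L _ _ _ _ oclosed0_25 i (by omega) (by omega)
  · exact checkClosedG_sound L _ _ _ _ oclosed0_26 i (by omega) (by omega)
  · exact checkClosedG_sound L _ _ _ _ oclosed0_27 i (by omega) (by omega)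
  · exact checkClosedG_sound L _ _ _ _ oclosed0_28 i (by omega) (by omega)
  · exact checkClosedG_sound L _ _ _ _ oclosed0_29 i (by omega) (by omega)
  · exact checkClosedG_sound L _ _ _ _ oclosed0_30 i (by omega) (by omega)
  · exact checkClosedG_sound L _ _ _ _ oclosed0_31 i (by omega) (by omega)
  · exact checkClosedG_sound L _ _ _ _ oclosed0_32 i (by omega) (by omega)
  · exact checkClosedG_sound L _ _ _ _ oclosed0_33 i (by omega) (by omega)
  · exact checkClosedG_sound L _ _ _ _ oclosed0_34 i (by omega) (by omega)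
  · exact checkClosedG_sound L _ _ _ _ oclosed0_35 i (by omega) (by omega)
  · exact checkClosedG_sound L _ _ _ _ oclosed0_36 i (by omega) (by omega)
  · exact checkClosedG_sound L _ _ _ _ oclosed0_37 i (by omega) (by omega)
  · exact checkClosedG_sound L _ _ _ _ oclosed0_38 i (by omega) (by omega)
  · exact checkClosedG_sound L _ _ _ _ oclosed0_39 i (by omega) (by omega)
  · exact checkClosedG_sound L _ _ _ _ oclosed0_40 i (by omega) (by omega)
  · exact checkClosedG_sound L _ _ _ _ oclosed0_41 i (by omega) (by omega)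
  · exact checkClosedG_sound L _ _ _ _ oclosed0_42 i (by omega) (by omega)
  · exact checkClosedG_sound L _ _ _ _ oclosed0_43 i (by omega) (by omega)
  · exact checkClosedG_sound L _ _ _ _ oclosed0_44 i (by omega) (by omega)
  · exact checkClosedG_sound L _ _ _ _ oclosed0_45 i (by omega) (by omega)

theorem oclosed0 : ∀ i < 22880, tb omask0 i = true → ∀ ts ∈ sgT, tb omask0 (applyT 15 32768 ts i) = true := by
  intro i hi hb ts hts
  have := oclosedL0 i hi hb ts hts
  rw [applyL_eq] at this
  exact this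

theorem oconnL0 : ∀ i < 22880, tb omask0 i = true → i ≠ 7122 → ∃ ts ∈ sgT, tb omask0 (applyTG L ts i) = true ∧
    L hr (applyTG L ts i) < L hr i := by
  intro i hi
  have hc : i / 500 < 46 := by omega
  interval_cases hq : i / 500
  · exact checkOrbConnG_sound L _ _ _ _ _ _ oconn0_0 i (by omega) (by omega)
  · exact checkOrbConnG_sound L _ _ _ _ _ _ oconn0_1 i (by omega) (by omega)
  · exact checkOrbConnG_sound L _ _ _ _ _ _ oconn0_2 i (by omega) (by omega)
  · exact checkOrbConnG_sound L _ _ _ _ _ _ oconn0_3 i (by omega) (by omega)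
  · exact checkOrbConnG_sound L _ _ _ _ _ _ oconn0_4 i (by omega) (by omega)
  · exact checkOrbConnG_sound L _ _ _ _ _ _ oconn0_5 i (by omega) (by omega)
  · exact checkOrbConnG_sound L _ _ _ _ _ _ oconn0_6 i (by omega) (by omega)
  · exact checkOrbConnG_sound L _ _ _ _ _ _ oconn0_7 i (by omega) (by omega)
  · exact checkOrbConnG_sound L _ _ _ _ _ _ oconn0_8 i (by omega) (by omega)
  · exact checkOrbConnG_sound L _ _ _ _ _ _ oconn0_9 i (by omega) (by omega)
  · exact checkOrbConnG_sound L _ _ _ _ _ _ oconn0_10 i (by omega) (by omega)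
  · exact checkOrbConnG_sound L _ _ _ _ _ _ oconn0_11 i (by omega) (by omega)
  · exact checkOrbConnG_sound L _ _ _ _ _ _ oconn0_12 i (by omega) (by omega)
  · exact checkOrbConnG_sound L _ _ _ _ _ _ oconn0_13 i (by omega) (by omega)
  · exact checkOrbConnG_sound L _ _ _ _ _ _ oconn0_14 i (by omega) (by omega)
  · exact checkOrbConnG_sound L _ _ _ _ _ _ oconn0_15 i (by omega) (by omega)
  · exact checkOrbConnG_sound L _ _ _ _ _ _ oconn0_16 i (by omega) (by omega)
  · exact checkOrbConnG_sound L _ _ _ _ _ _ oconn0_17 i (by omega) (by omega)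
  · exact checkOrbConnG_sound L _ _ _ _ _ _ oconn0_18 i (by omega) (by omega)
  · exact checkOrbConnG_sound L _ _ _ _ _ _ oconn0_19 i (by omega) (by omega)
  · exact checkOrbConnG_sound L _ _ _ _ _ _ oconn0_20 i (by omega) (by omega)
  · exact checkOrbConnG_sound L _ _ _ _ _ _ oconn0_21 i (by omega) (by omega)
  · exact checkOrbConnG_sound L _ _ _ _ _ _ oconn0_22 i (by omega) (by omega)
  · exact checkOrbConnG_sound L _ _ _ _ _ _ oconn0_23 i (by omega) (by omega)
  · exact checkOrbConnG_sound L _ _ _ _ _ _ oconn0_24 i (by omega) (by omega)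
  · exact checkOrbConnG_sound L _ _ _ _ _ _ oconn0_25 i (by omega) (by omega)
  · exact checkOrbConnG_sound L _ _ _ _ _ _ oconn0_26 i (by omega) (by omega)
  · exact checkOrbConnG_sound L _ _ _ _ _ _ oconn0_27 i (by omega) (by omega)
  · exact checkOrbConnG_sound L _ _ _ _ _ _ oconn0_28 i (by omega) (by omega)
  · exact checkOrbConnG_sound L _ _ _ _ _ _ oconn0_29 i (by omega) (by omega)
  · exact checkOrbConnG_sound L _ _ _ _ _ _ oconn0_30 i (by omega) (by omega)
  · exact checkOrbConnG_sound L _ _ _ _ _ _ oconn0_31 i (by omega) (by omega)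
  · exact checkOrbConnG_sound L _ _ _ _ _ _ oconn0_32 i (by omega) (by omega)
  · exact checkOrbConnG_sound L _ _ _ _ _ _ oconn0_33 i (by omega) (by omega)
  · exact checkOrbConnG_sound L _ _ _ _ _ _ oconn0_34 i (by omega) (by omega)
  · exact checkOrbConnG_sound L _ _ _ _ _ _ oconn0_35 i (by omega) (by omega)
  · exact checkOrbConnG_sound L _ _ _ _ _ _ oconn0_36 i (by omega) (by omega)
  · exact checkOrbConnG_sound L _ _ _ _ _ _ oconn0_37 i (by omega) (by omega)
  · exact checkOrbConnG_sound L _ _ _ _ _ _ oconn0_38 i (by omega) (by omega)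
  · exact checkOrbConnG_sound L _ _ _ _ _ _ oconn0_39 i (by omega) (by omega)
  · exact checkOrbConnG_sound L _ _ _ _ _ _ oconn0_40 i (by omega) (by omega)
  · exact checkOrbConnG_sound L _ _ _ _ _ _ oconn0_41 i (by omega) (by omega)
  · exact checkOrbConnG_sound L _ _ _ _ _ _ oconn0_42 i (by omega) (by omega)
  · exact checkOrbConnG_sound L _ _ _ _ _ _ oconn0_43 i (by omega) (by omega)
  · exact checkOrbConnG_sound L _ _ _ _ _ _ oconn0_44 i (by omega) (by omega)
  · exact checkOrbConnG_sound L _ _ _ _ _ _ oconn0_45 i (by omega) (by omega)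

theorem oconn0 : ∀ i < 22880, tb omask0 i = true → i ≠ 7122 → ∃ ts ∈ sgT, tb omask0 (applyT 15 32768 ts i) = true ∧
    lk 15 32768 hr (applyT 15 32768 ts i) < lk 15 32768 hr i := by
  intro i hi hb hp
  obtain ⟨ts, hts, h1, h2⟩ := oconnL0 i hi hb hp
  simp only [L_eq, applyL_eq] at h1 h2
  exact ⟨ts, hts, h1, h2⟩

theorem oclosedL1 : ∀ i < 22880, tb omask1 i = true → ∀ ts ∈ sgT, tb omask1 (applyTG L ts i) = true := by
  intro i hi
  have hc : i / 500 < 46 := by omega
  interval_cases hq : i / 500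
  · exact checkClosedG_sound L _ _ _ _ oclosed1_0 i (by omega) (by omega)
  · exact checkClosedG_sound L _ _ _ _ oclosed1_1 i (by omega) (by omega)
  · exact checkClosedG_sound L _ _ _ _ oclosed1_2 i (by omega) (by omega)
  · exact checkClosedG_sound L _ _ _ _ oclosed1_3 i (by omega) (by omega)
  · exact checkClosedG_sound L _ _ _ _ oclosed1_4 i (by omega) (by omega)
  · exact checkClosedG_sound L _ _ _ _ oclosed1_5 i (by omega) (by omega)
  · exact checkClosedG_sound L _ _ _ _ oclosed1_6 i (by omega) (by omega)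
  · exact checkClosedG_sound L _ _ _ _ oclosed1_7 i (by omega) (by omega)
  · exact checkClosedG_sound L _ _ _ _ oclosed1_8 i (by omega) (by omega)
  · exact checkClosedG_sound L _ _ _ _ oclosed1_9 i (by omega) (by omega)
  · exact checkClosedG_sound L _ _ _ _ oclosed1_10 i (by omega) (by omega)
  · exact checkClosedG_sound L _ _ _ _ oclosed1_11 i (by omega) (by omega)
  · exact checkClosedG_sound L _ _ _ _ oclosed1_12 i (by omega) (by omega)
  · exact checkClosedG_sound L _ _ _ _ oclosed1_13 i (by omega) (by omega)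
  · exact checkClosedG_sound L _ _ _ _ oclosed1_14 i (by omega) (by omega)
  · exact checkClosedG_sound L _ _ _ _ oclosed1_15 i (by omega) (by omega)
  · exact checkClosedG_sound L _ _ _ _ oclosed1_16 i (by omega) (by omega)
  · exact checkClosedG_sound L _ _ _ _ oclosed1_17 i (by omega) (by omega)
  · exact checkClosedG_sound L _ _ _ _ oclosed1_18 i (by omega) (by omega)
  · exact checkClosedG_sound L _ _ _ _ oclosed1_19 i (by omega) (by omega)
  · exact checkClosedG_sound L _ _ _ _ oclosed1_20 i (by omega) (by omega)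
  · exact checkClosedG_sound L _ _ _ _ oclosed1_21 i (by omega) (by omega)
  · exact checkClosedG_sound L _ _ _ _ oclosed1_22 i (by omega) (by omega)
  · exact checkClosedG_sound L _ _ _ _ oclosed1_23 i (by omega) (by omega)
  · exact checkClosedG_sound L _ _ _ _ oclosed1_24 i (by omega) (by omega)
  · exact checkClosedG_sound L _ _ _ _ oclosed1_25 i (by omega) (by omega)
  · exact checkClosedG_sound L _ _ _ _ oclosed1_26 i (by omega) (by omega)
  · exact checkClosedG_sound L _ _ _ _ oclosed1_27 i (by omega) (by omega)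
  · exact checkClosedG_sound L _ _ _ _ oclosed1_28 i (by omega) (by omega)
  · exact checkClosedG_sound L _ _ _ _ oclosed1_29 i (by omega) (by omega)
  · exact checkClosedG_sound L _ _ _ _ oclosed1_30 i (by omega) (by omega)
  · exact checkClosedG_sound L _ _ _ _ oclosed1_31 i (by omega) (by omega)
  · exact checkClosedG_sound L _ _ _ _ oclosed1_32 i (by omega) (by omega)
  · exact checkClosedG_sound L _ _ _ _ oclosed1_33 i (by omega) (by omega)
  · exact checkClosedG_sound L _ _ _ _ oclosed1_34 i (by omega) (by omega)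
  · exact checkClosedG_sound L _ _ _ _ oclosed1_35 i (by omega) (by omega)
  · exact checkClosedG_sound L _ _ _ _ oclosed1_36 i (by omega) (by omega)
  · exact checkClosedG_sound L _ _ _ _ oclosed1_37 i (by omega) (by omega)
  · exact checkClosedG_sound L _ _ _ _ oclosed1_38 i (by omega) (by omega)
  · exact checkClosedG_sound L _ _ _ _ oclosed1_39 i (by omega) (by omega)
  · exact checkClosedG_sound L _ _ _ _ oclosed1_40 i (by omega) (by omega)
  · exact checkClosedG_sound L _ _ _ _ oclosed1_41 i (by omega) (by omega)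
  · exact checkClosedG_sound L _ _ _ _ oclosed1_42 i (by omega) (by omega)
  · exact checkClosedG_sound L _ _ _ _ oclosed1_43 i (by omega) (by omega)
  · exact checkClosedG_sound L _ _ _ _ oclosed1_44 i (by omega) (by omega)
  · exact checkClosedG_sound L _ _ _ _ oclosed1_45 i (by omega) (by omega)

theorem oclosed1 : ∀ i < 22880, tb omask1 i = true → ∀ ts ∈ sgT, tb omask1 (applyT 15 32768 ts i) = true := by
  intro i hi hb ts hts
  have := oclosedL1 i hi hb ts hts
  rw [applyL_eq] at this
  exact this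

theorem oconnL1 : ∀ i < 22880, tb omask1 i = true → i ≠ 1 → ∃ ts ∈ sgT, tb omask1 (applyTG L ts i) = true ∧
    L hr (applyTG L ts i) < L hr i := by
  intro i hi
  have hc : i / 500 < 46 := by omega
  interval_cases hq : i / 500
  · exact checkOrbConnG_sound L _ _ _ _ _ _ oconn1_0 i (by omega) (by omega)
  · exact checkOrbConnG_sound L _ _ _ _ _ _ oconn1_1 i (by omega) (by omega)
  · exact checkOrbConnG_sound L _ _ _ _ _ _ oconn1_2 i (by omega) (by omega)
  · exact checkOrbConnG_sound L _ _ _ _ _ _ oconn1_3 i (by omega) (by omega)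
  · exact checkOrbConnG_sound L _ _ _ _ _ _ oconn1_4 i (by omega) (by omega)
  · exact checkOrbConnG_sound L _ _ _ _ _ _ oconn1_5 i (by omega) (by omega)
  · exact checkOrbConnG_sound L _ _ _ _ _ _ oconn1_6 i (by omega) (by omega)
  · exact checkOrbConnG_sound L _ _ _ _ _ _ oconn1_7 i (by omega) (by omega)
  · exact checkOrbConnG_sound L _ _ _ _ _ _ oconn1_8 i (by omega) (by omega)
  · exact checkOrbConnG_sound L _ _ _ _ _ _ oconn1_9 i (by omega) (by omega)
  · exact checkOrbConnG_sound L _ _ _ _ _ _ oconn1_10 i (by omega) (by omega)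
  · exact checkOrbConnG_sound L _ _ _ _ _ _ oconn1_11 i (by omega) (by omega)
  · exact checkOrbConnG_sound L _ _ _ _ _ _ oconn1_12 i (by omega) (by omega)
  · exact checkOrbConnG_sound L _ _ _ _ _ _ oconn1_13 i (by omega) (by omega)
  · exact checkOrbConnG_sound L _ _ _ _ _ _ oconn1_14 i (by omega) (by omega)
  · exact checkOrbConnG_sound L _ _ _ _ _ _ oconn1_15 i (by omega) (by omega)
  · exact checkOrbConnG_sound L _ _ _ _ _ _ oconn1_16 i (by omega) (by omega)
  · exact checkOrbConnG_sound L _ _ _ _ _ _ oconn1_17 i (by omega) (by omega)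
  · exact checkOrbConnG_sound L _ _ _ _ _ _ oconn1_18 i (by omega) (by omega)
  · exact checkOrbConnG_sound L _ _ _ _ _ _ oconn1_19 i (by omega) (by omega)
  · exact checkOrbConnG_sound L _ _ _ _ _ _ oconn1_20 i (by omega) (by omega)
  · exact checkOrbConnG_sound L _ _ _ _ _ _ oconn1_21 i (by omega) (by omega)
  · exact checkOrbConnG_sound L _ _ _ _ _ _ oconn1_22 i (by omega) (by omega)
  · exact checkOrbConnG_sound L _ _ _ _ _ _ oconn1_23 i (by omega) (by omega)
  · exact checkOrbConnG_sound L _ _ _ _ _ _ oconn1_24 i (by omega) (by omega)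
  · exact checkOrbConnG_sound L _ _ _ _ _ _ oconn1_25 i (by omega) (by omega)
  · exact checkOrbConnG_sound L _ _ _ _ _ _ oconn1_26 i (by omega) (by omega)
  · exact checkOrbConnG_sound L _ _ _ _ _ _ oconn1_27 i (by omega) (by omega)
  · exact checkOrbConnG_sound L _ _ _ _ _ _ oconn1_28 i (by omega) (by omega)
  · exact checkOrbConnG_sound L _ _ _ _ _ _ oconn1_29 i (by omega) (by omega)
  · exact checkOrbConnG_sound L _ _ _ _ _ _ oconn1_30 i (by omega) (by omega)
  · exact checkOrbConnG_sound L _ _ _ _ _ _ oconn1_31 i (by omega) (by omega)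
  · exact checkOrbConnG_sound L _ _ _ _ _ _ oconn1_32 i (by omega) (by omega)
  · exact checkOrbConnG_sound L _ _ _ _ _ _ oconn1_33 i (by omega) (by omega)
  · exact checkOrbConnG_sound L _ _ _ _ _ _ oconn1_34 i (by omega) (by omega)
  · exact checkOrbConnG_sound L _ _ _ _ _ _ oconn1_35 i (by omega) (by omega)
  · exact checkOrbConnG_sound L _ _ _ _ _ _ oconn1_36 i (by omega) (by omega)
  · exact checkOrbConnG_sound L _ _ _ _ _ _ oconn1_37 i (by omega) (by omega)
  · exact checkOrbConnG_sound L _ _ _ _ _ _ oconn1_38 i (by omega) (by omega)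
  · exact checkOrbConnG_sound L _ _ _ _ _ _ oconn1_39 i (by omega) (by omega)
  · exact checkOrbConnG_sound L _ _ _ _ _ _ oconn1_40 i (by omega) (by omega)
  · exact checkOrbConnG_sound L _ _ _ _ _ _ oconn1_41 i (by omega) (by omega)
  · exact checkOrbConnG_sound L _ _ _ _ _ _ oconn1_42 i (by omega) (by omega)
  · exact checkOrbConnG_sound L _ _ _ _ _ _ oconn1_43 i (by omega) (by omega)
  · exact checkOrbConnG_sound L _ _ _ _ _ _ oconn1_44 i (by omega) (by omega)
  · exact checkOrbConnG_sound L _ _ _ _ _ _ oconn1_45 i (by omega) (by omega)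

theorem oconn1 : ∀ i < 22880, tb omask1 i = true → i ≠ 1 → ∃ ts ∈ sgT, tb omask1 (applyT 15 32768 ts i) = true ∧
    lk 15 32768 hr (applyT 15 32768 ts i) < lk 15 32768 hr i := by
  intro i hi hb hp
  obtain ⟨ts, hts, h1, h2⟩ := oconnL1 i hi hb hp
  simp only [L_eq, applyL_eq] at h1 h2
  exact ⟨ts, hts, h1, h2⟩

theorem oclosedL2 : ∀ i < 22880, tb omask2 i = true → ∀ ts ∈ sgT, tb omask2 (applyTG L ts i) = true := by
  intro i hi
  have hc : i / 500 < 46 := by omega
  interval_cases hq : i / 500
  · exact checkClosedG_sound L _ _ _ _ oclosed2_0 i (by omega) (by omega)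
  · exact checkClosedG_sound L _ _ _ _ oclosed2_1 i (by omega) (by omega)
  · exact checkClosedG_sound L _ _ _ _ oclosed2_2 i (by omega) (by omega)
  · exact checkClosedG_sound L _ _ _ _ oclosed2_3 i (by omega) (by omega)
  · exact checkClosedG_sound L _ _ _ _ oclosed2_4 i (by omega) (by omega)
  · exact checkClosedG_sound L _ _ _ _ oclosed2_5 i (by omega) (by omega)
  · exact checkClosedG_sound L _ _ _ _ oclosed2_6 i (by omega) (by omega)
  · exact checkClosedG_sound L _ _ _ _ oclosed2_7 i (by omega) (by omega)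
  · exact checkClosedG_sound L _ _ _ _ oclosed2_8 i (by omega) (by omega)
  · exact checkClosedG_sound L _ _ _ _ oclosed2_9 i (by omega) (by omega)
  · exact checkClosedG_sound L _ _ _ _ oclosed2_10 i (by omega) (by omega)
  · exact checkClosedG_sound L _ _ _ _ oclosed2_11 i (by omega) (by omega)
  · exact checkClosedG_sound L _ _ _ _ oclosed2_12 i (by omega) (by omega)
  · exact checkClosedG_sound L _ _ _ _ oclosed2_13 i (by omega) (by omega)
  · exact checkClosedG_sound L _ _ _ _ oclosed2_14 i (by omega) (by omega)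
  · exact checkClosedG_sound L _ _ _ _ oclosed2_15 i (by omega) (by omega)
  · exact checkClosedG_sound L _ _ _ _ oclosed2_16 i (by omega) (by omega)
  · exact checkClosedG_sound L _ _ _ _ oclosed2_17 i (by omega) (by omega)
  · exact checkClosedG_sound L _ _ _ _ oclosed2_18 i (by omega) (by omega)
  · exact checkClosedG_sound L _ _ _ _ oclosed2_19 i (by omega) (by omega)
  · exact checkClosedG_sound L _ _ _ _ oclosed2_20 i (by omega) (by omega)
  · exact checkClosedG_sound L _ _ _ _ oclosed2_21 i (by omega) (by omega)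
  · exact checkClosedG_sound L _ _ _ _ oclosed2_22 i (by omega) (by omega)
  · exact checkClosedG_sound L _ _ _ _ oclosed2_23 i (by omega) (by omega)
  · exact checkClosedG_sound L _ _ _ _ oclosed2_24 i (by omega) (by omega)
  · exact checkClosedG_sound L _ _ _ _ oclosed2_25 i (by omega) (by omega)
  · exact checkClosedG_sound L _ _ _ _ oclosed2_26 i (by omega) (by omega)
  · exact checkClosedG_sound L _ _ _ _ oclosed2_27 i (by omega) (by omega)
  · exact checkClosedG_sound L _ _ _ _ oclosed2_28 i (by omega) (by omega)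
  · exact checkClosedG_sound L _ _ _ _ oclosed2_29 i (by omega) (by omega)
  · exact checkClosedG_sound L _ _ _ _ oclosed2_30 i (by omega) (by omega)
  · exact checkClosedG_sound L _ _ _ _ oclosed2_31 i (by omega) (by omega)
  · exact checkClosedG_sound L _ _ _ _ oclosed2_32 i (by omega) (by omega)
  · exact checkClosedG_sound L _ _ _ _ oclosed2_33 i (by omega) (by omega)
  · exact checkClosedG_sound L _ _ _ _ oclosed2_34 i (by omega) (by omega)
  · exact checkClosedG_sound L _ _ _ _ oclosed2_35 i (by omega) (by omega)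
  · exact checkClosedG_sound L _ _ _ _ oclosed2_36 i (by omega) (by omega)
  · exact checkClosedG_sound L _ _ _ _ oclosed2_37 i (by omega) (by omega)
  · exact checkClosedG_sound L _ _ _ _ oclosed2_38 i (by omega) (by omega)
  · exact checkClosedG_sound L _ _ _ _ oclosed2_39 i (by omega) (by omega)
  · exact checkClosedG_sound L _ _ _ _ oclosed2_40 i (by omega) (by omega)
  · exact checkClosedG_sound L _ _ _ _ oclosed2_41 i (by omega) (by omega)
  · exact checkClosedG_sound L _ _ _ _ oclosed2_42 i (by omega) (by omega)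
  · exact checkClosedG_sound L _ _ _ _ oclosed2_43 i (by omega) (by omega)
  · exact checkClosedG_sound L _ _ _ _ oclosed2_44 i (by omega) (by omega)
  · exact checkClosedG_sound L _ _ _ _ oclosed2_45 i (by omega) (by omega)

theorem oclosed2 : ∀ i < 22880, tb omask2 i = true → ∀ ts ∈ sgT, tb omask2 (applyT 15 32768 ts i) = true := by
  intro i hi hb ts hts
  have := oclosedL2 i hi hb ts hts
  rw [applyL_eq] at this
  exact this

theorem oconnL2 : ∀ i < 22880, tb omask2 i = true → i ≠ 10 → ∃ ts ∈ sgT, tb omask2 (applyTG L ts i) = true ∧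
    L hr (applyTG L ts i) < L hr i := by
  intro i hi
  have hc : i / 500 < 46 := by omega
  interval_cases hq : i / 500
  · exact checkOrbConnG_sound L _ _ _ _ _ _ oconn2_0 i (by omega) (by omega)
  · exact checkOrbConnG_sound L _ _ _ _ _ _ oconn2_1 i (by omega) (by omega)
  · exact checkOrbConnG_sound L _ _ _ _ _ _ oconn2_2 i (by omega) (by omega)
  · exact checkOrbConnG_sound L _ _ _ _ _ _ oconn2_3 i (by omega) (by omega)
  · exact checkOrbConnG_sound L _ _ _ _ _ _ oconn2_4 i (by omega) (by omega)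
  · exact checkOrbConnG_sound L _ _ _ _ _ _ oconn2_5 i (by omega) (by omega)
  · exact checkOrbConnG_sound L _ _ _ _ _ _ oconn2_6 i (by omega) (by omega)
  · exact checkOrbConnG_sound L _ _ _ _ _ _ oconn2_7 i (by omega) (by omega)
  · exact checkOrbConnG_sound L _ _ _ _ _ _ oconn2_8 i (by omega) (by omega)
  · exact checkOrbConnG_sound L _ _ _ _ _ _ oconn2_9 i (by omega) (by omega)
  · exact checkOrbConnG_sound L _ _ _ _ _ _ oconn2_10 i (by omega) (by omega)
  · exact checkOrbConnG_sound L _ _ _ _ _ _ oconn2_11 i (by omega) (by omega)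
  · exact checkOrbConnG_sound L _ _ _ _ _ _ oconn2_12 i (by omega) (by omega)
  · exact checkOrbConnG_sound L _ _ _ _ _ _ oconn2_13 i (by omega) (by omega)
  · exact checkOrbConnG_sound L _ _ _ _ _ _ oconn2_14 i (by omega) (by omega)
  · exact checkOrbConnG_sound L _ _ _ _ _ _ oconn2_15 i (by omega) (by omega)
  · exact checkOrbConnG_sound L _ _ _ _ _ _ oconn2_16 i (by omega) (by omega)
  · exact checkOrbConnG_sound L _ _ _ _ _ _ oconn2_17 i (by omega) (by omega)
  · exact checkOrbConnG_sound L _ _ _ _ _ _ oconn2_18 i (by omega) (by omega)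
  · exact checkOrbConnG_sound L _ _ _ _ _ _ oconn2_19 i (by omega) (by omega)
  · exact checkOrbConnG_sound L _ _ _ _ _ _ oconn2_20 i (by omega) (by omega)
  · exact checkOrbConnG_sound L _ _ _ _ _ _ oconn2_21 i (by omega) (by omega)
  · exact checkOrbConnG_sound L _ _ _ _ _ _ oconn2_22 i (by omega) (by omega)
  · exact checkOrbConnG_sound L _ _ _ _ _ _ oconn2_23 i (by omega) (by omega)
  · exact checkOrbConnG_sound L _ _ _ _ _ _ oconn2_24 i (by omega) (by omega)
  · exact checkOrbConnG_sound L _ _ _ _ _ _ oconn2_25 i (by omega) (by omega)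
  · exact checkOrbConnG_sound L _ _ _ _ _ _ oconn2_26 i (by omega) (by omega)
  · exact checkOrbConnG_sound L _ _ _ _ _ _ oconn2_27 i (by omega) (by omega)
  · exact checkOrbConnG_sound L _ _ _ _ _ _ oconn2_28 i (by omega) (by omega)
  · exact checkOrbConnG_sound L _ _ _ _ _ _ oconn2_29 i (by omega) (by omega)
  · exact checkOrbConnG_sound L _ _ _ _ _ _ oconn2_30 i (by omega) (by omega)
  · exact checkOrbConnG_sound L _ _ _ _ _ _ oconn2_31 i (by omega) (by omega)
  · exact checkOrbConnG_sound L _ _ _ _ _ _ oconn2_32 i (by omega) (by omega)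
  · exact checkOrbConnG_sound L _ _ _ _ _ _ oconn2_33 i (by omega) (by omega)
  · exact checkOrbConnG_sound L _ _ _ _ _ _ oconn2_34 i (by omega) (by omega)
  · exact checkOrbConnG_sound L _ _ _ _ _ _ oconn2_35 i (by omega) (by omega)
  · exact checkOrbConnG_sound L _ _ _ _ _ _ oconn2_36 i (by omega) (by omega)
  · exact checkOrbConnG_sound L _ _ _ _ _ _ oconn2_37 i (by omega) (by omega)
  · exact checkOrbConnG_sound L _ _ _ _ _ _ oconn2_38 i (by omega) (by omega)
  · exact checkOrbConnG_sound L _ _ _ _ _ _ oconn2_39 i (by omega) (by omega)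
  · exact checkOrbConnG_sound L _ _ _ _ _ _ oconn2_40 i (by omega) (by omega)
  · exact checkOrbConnG_sound L _ _ _ _ _ _ oconn2_41 i (by omega) (by omega)
  · exact checkOrbConnG_sound L _ _ _ _ _ _ oconn2_42 i (by omega) (by omega)
  · exact checkOrbConnG_sound L _ _ _ _ _ _ oconn2_43 i (by omega) (by omega)
  · exact checkOrbConnG_sound L _ _ _ _ _ _ oconn2_44 i (by omega) (by omega)
  · exact checkOrbConnG_sound L _ _ _ _ _ _ oconn2_45 i (by omega) (by omega)

theorem oconn2 : ∀ i < 22880, tb omask2 i = true → i ≠ 10 → ∃ ts ∈ sgT, tb omask2 (applyT 15 32768 ts i) = true ∧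
    lk 15 32768 hr (applyT 15 32768 ts i) < lk 15 32768 hr i := by
  intro i hi hb hp
  obtain ⟨ts, hts, h1, h2⟩ := oconnL2 i hi hb hp
  simp only [L_eq, applyL_eq] at h1 h2
  exact ⟨ts, hts, h1, h2⟩

theorem oclosedL3 : ∀ i < 22880, tb omask3 i = true → ∀ ts ∈ sgT, tb omask3 (applyTG L ts i) = true := by
  intro i hi
  have hc : i / 500 < 46 := by omega
  interval_cases hq : i / 500
  · exact checkClosedG_sound L _ _ _ _ oclosed3_0 i (by omega) (by omega)
  · exact checkClosedG_sound L _ _ _ _ oclosed3_1 i (by omega) (by omega)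
  · exact checkClosedG_sound L _ _ _ _ oclosed3_2 i (by omega) (by omega)
  · exact checkClosedG_sound L _ _ _ _ oclosed3_3 i (by omega) (by omega)
  · exact checkClosedG_sound L _ _ _ _ oclosed3_4 i (by omega) (by omega)
  · exact checkClosedG_sound L _ _ _ _ oclosed3_5 i (by omega) (by omega)
  · exact checkClosedG_sound L _ _ _ _ oclosed3_6 i (by omega) (by omega)
  · exact checkClosedG_sound L _ _ _ _ oclosed3_7 i (by omega) (by omega)
  · exact checkClosedG_sound L _ _ _ _ oclosed3_8 i (by omega) (by omega)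
  · exact checkClosedG_sound L _ _ _ _ oclosed3_9 i (by omega) (by omega)
  · exact checkClosedG_sound L _ _ _ _ oclosed3_10 i (by omega) (by omega)
  · exact checkClosedG_sound L _ _ _ _ oclosed3_11 i (by omega) (by omega)
  · exact checkClosedG_sound L _ _ _ _ oclosed3_12 i (by omega) (by omega)
  · exact checkClosedG_sound L _ _ _ _ oclosed3_13 i (by omega) (by omega)
  · exact checkClosedG_sound L _ _ _ _ oclosed3_14 i (by omega) (by omega)
  · exact checkClosedG_sound L _ _ _ _ oclosed3_15 i (by omega) (by omega)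
  · exact checkClosedG_sound L _ _ _ _ oclosed3_16 i (by omega) (by omega)
  · exact checkClosedG_sound L _ _ _ _ oclosed3_17 i (by omega) (by omega)
  · exact checkClosedG_sound L _ _ _ _ oclosed3_18 i (by omega) (by omega)
  · exact checkClosedG_sound L _ _ _ _ oclosed3_19 i (by omega) (by omega)
  · exact checkClosedG_sound L _ _ _ _ oclosed3_20 i (by omega) (by omega)
  · exact checkClosedG_sound L _ _ _ _ oclosed3_21 i (by omega) (by omega)
  · exact checkClosedG_sound L _ _ _ _ oclosed3_22 i (by omega) (by omega)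
  · exact checkClosedG_sound L _ _ _ _ oclosed3_23 i (by omega) (by omega)
  · exact checkClosedG_sound L _ _ _ _ oclosed3_24 i (by omega) (by omega)
  · exact checkClosedG_sound L _ _ _ _ oclosed3_25 i (by omega) (by omega)
  · exact checkClosedG_sound L _ _ _ _ oclosed3_26 i (by omega) (by omega)
  · exact checkClosedG_sound L _ _ _ _ oclosed3_27 i (by omega) (by omega)
  · exact checkClosedG_sound L _ _ _ _ oclosed3_28 i (by omega) (by omega)
  · exact checkClosedG_sound L _ _ _ _ oclosed3_29 i (by omega) (by omega)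
  · exact checkClosedG_sound L _ _ _ _ oclosed3_30 i (by omega) (by omega)
  · exact checkClosedG_sound L _ _ _ _ oclosed3_31 i (by omega) (by omega)
  · exact checkClosedG_sound L _ _ _ _ oclosed3_32 i (by omega) (by omega)
  · exact checkClosedG_sound L _ _ _ _ oclosed3_33 i (by omega) (by omega)
  · exact checkClosedG_sound L _ _ _ _ oclosed3_34 i (by omega) (by omega)
  · exact checkClosedG_sound L _ _ _ _ oclosed3_35 i (by omega) (by omega)
  · exact checkClosedG_sound L _ _ _ _ oclosed3_36 i (by omega) (by omega)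
  · exact checkClosedG_sound L _ _ _ _ oclosed3_37 i (by omega) (by omega)
  · exact checkClosedG_sound L _ _ _ _ oclosed3_38 i (by omega) (by omega)
  · exact checkClosedG_sound L _ _ _ _ oclosed3_39 i (by omega) (by omega)
  · exact checkClosedG_sound L _ _ _ _ oclosed3_40 i (by omega) (by omega)
  · exact checkClosedG_sound L _ _ _ _ oclosed3_41 i (by omega) (by omega)
  · exact checkClosedG_sound L _ _ _ _ oclosed3_42 i (by omega) (by omega)
  · exact checkClosedG_sound L _ _ _ _ oclosed3_43 i (by omega) (by omega)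
  · exact checkClosedG_sound L _ _ _ _ oclosed3_44 i (by omega) (by omega)
  · exact checkClosedG_sound L _ _ _ _ oclosed3_45 i (by omega) (by omega)

theorem oclosed3 : ∀ i < 22880, tb omask3 i = true → ∀ ts ∈ sgT, tb omask3 (applyT 15 32768 ts i) = true := by
  intro i hi hb ts hts
  have := oclosedL3 i hi hb ts hts
  rw [applyL_eq] at this
  exact this

theorem oconnL3 : ∀ i < 22880, tb omask3 i = true → i ≠ 67 → ∃ ts ∈ sgT, tb omask3 (applyTG L ts i) = true ∧
    L hr (applyTG L ts i) < L hr i := by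
  intro i hi
  have hc : i / 500 < 46 := by omega
  interval_cases hq : i / 500
  · exact checkOrbConnG_sound L _ _ _ _ _ _ oconn3_0 i (by omega) (by omega)
  · exact checkOrbConnG_sound L _ _ _ _ _ _ oconn3_1 i (by omega) (by omega)
  · exact checkOrbConnG_sound L _ _ _ _ _ _ oconn3_2 i (by omega) (by omega)
  · exact checkOrbConnG_sound L _ _ _ _ _ _ oconn3_3 i (by omega) (by omega)
  · exact checkOrbConnG_sound L _ _ _ _ _ _ oconn3_4 i (by omega) (by omega)
  · exact checkOrbConnG_sound L _ _ _ _ _ _ oconn3_5 i (by omega) (by omega)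
  · exact checkOrbConnG_sound L _ _ _ _ _ _ oconn3_6 i (by omega) (by omega)
  · exact checkOrbConnG_sound L _ _ _ _ _ _ oconn3_7 i (by omega) (by omega)
  · exact checkOrbConnG_sound L _ _ _ _ _ _ oconn3_8 i (by omega) (by omega)
  · exact checkOrbConnG_sound L _ _ _ _ _ _ oconn3_9 i (by omega) (by omega)
  · exact checkOrbConnG_sound L _ _ _ _ _ _ oconn3_10 i (by omega) (by omega)
  · exact checkOrbConnG_sound L _ _ _ _ _ _ oconn3_11 i (by omega) (by omega)
  · exact checkOrbConnG_sound L _ _ _ _ _ _ oconn3_12 i (by omega) (by omega)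
  · exact checkOrbConnG_sound L _ _ _ _ _ _ oconn3_13 i (by omega) (by omega)
  · exact checkOrbConnG_sound L _ _ _ _ _ _ oconn3_14 i (by omega) (by omega)
  · exact checkOrbConnG_sound L _ _ _ _ _ _ oconn3_15 i (by omega) (by omega)
  · exact checkOrbConnG_sound L _ _ _ _ _ _ oconn3_16 i (by omega) (by omega)
  · exact checkOrbConnG_sound L _ _ _ _ _ _ oconn3_17 i (by omega) (by omega)
  · exact checkOrbConnG_sound L _ _ _ _ _ _ oconn3_18 i (by omega) (by omega)
  · exact checkOrbConnG_sound L _ _ _ _ _ _ oconn3_19 i (by omega) (by omega)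
  · exact checkOrbConnG_sound L _ _ _ _ _ _ oconn3_20 i (by omega) (by omega)
  · exact checkOrbConnG_sound L _ _ _ _ _ _ oconn3_21 i (by omega) (by omega)
  · exact checkOrbConnG_sound L _ _ _ _ _ _ oconn3_22 i (by omega) (by omega)
  · exact checkOrbConnG_sound L _ _ _ _ _ _ oconn3_23 i (by omega) (by omega)
  · exact checkOrbConnG_sound L _ _ _ _ _ _ oconn3_24 i (by omega) (by omega)
  · exact checkOrbConnG_sound L _ _ _ _ _ _ oconn3_25 i (by omega) (by omega)
  · exact checkOrbConnG_sound L _ _ _ _ _ _ oconn3_26 i (by omega) (by omega)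
  · exact checkOrbConnG_sound L _ _ _ _ _ _ oconn3_27 i (by omega) (by omega)
  · exact checkOrbConnG_sound L _ _ _ _ _ _ oconn3_28 i (by omega) (by omega)
  · exact checkOrbConnG_sound L _ _ _ _ _ _ oconn3_29 i (by omega) (by omega)
  · exact checkOrbConnG_sound L _ _ _ _ _ _ oconn3_30 i (by omega) (by omega)
  · exact checkOrbConnG_sound L _ _ _ _ _ _ oconn3_31 i (by omega) (by omega)
  · exact checkOrbConnG_sound L _ _ _ _ _ _ oconn3_32 i (by omega) (by omega)
  · exact checkOrbConnG_sound L _ _ _ _ _ _ oconn3_33 i (by omega) (by omega)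
  · exact checkOrbConnG_sound L _ _ _ _ _ _ oconn3_34 i (by omega) (by omega)
  · exact checkOrbConnG_sound L _ _ _ _ _ _ oconn3_35 i (by omega) (by omega)
  · exact checkOrbConnG_sound L _ _ _ _ _ _ oconn3_36 i (by omega) (by omega)
  · exact checkOrbConnG_sound L _ _ _ _ _ _ oconn3_37 i (by omega) (by omega)
  · exact checkOrbConnG_sound L _ _ _ _ _ _ oconn3_38 i (by omega) (by omega)
  · exact checkOrbConnG_sound L _ _ _ _ _ _ oconn3_39 i (by omega) (by omega)
  · exact checkOrbConnG_sound L _ _ _ _ _ _ oconn3_40 i (by omega) (by omega)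
  · exact checkOrbConnG_sound L _ _ _ _ _ _ oconn3_41 i (by omega) (by omega)
  · exact checkOrbConnG_sound L _ _ _ _ _ _ oconn3_42 i (by omega) (by omega)
  · exact checkOrbConnG_sound L _ _ _ _ _ _ oconn3_43 i (by omega) (by omega)
  · exact checkOrbConnG_sound L _ _ _ _ _ _ oconn3_44 i (by omega) (by omega)
  · exact checkOrbConnG_sound L _ _ _ _ _ _ oconn3_45 i (by omega) (by omega)

theorem oconn3 : ∀ i < 22880, tb omask3 i = true → i ≠ 67 → ∃ ts ∈ sgT, tb omask3 (applyT 15 32768 ts i) = true ∧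
    lk 15 32768 hr (applyT 15 32768 ts i) < lk 15 32768 hr i := by
  intro i hi hb hp
  obtain ⟨ts, hts, h1, h2⟩ := oconnL3 i hi hb hp
  simp only [L_eq, applyL_eq] at h1 h2
  exact ⟨ts, hts, h1, h2⟩

/-- the images of the subgroup generators -/
abbrev S' : Set G := PresentedGroup.mk rels '' S

theorem H_eq : H = Subgroup.closure S' := MonoidHom.map_closure _ _

theorem sgT_eq : sgT = [(sgL0.map Prod.fst).map tabOf, (sgL1.map Prod.fst).map tabOf, (sgL2.map Prod.fst).map tabOf, (sgL3.map Prod.fst).map tabOf, (sgL4.map Prod.fst).map tabOf, (sgL5.map Prod.fst).map tabOf] := by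
  rfl

theorem good_sgT : ∀ ts ∈ sgT, ∀ t ∈ ts, Good 15 32768 22880 t := by
  intro ts hts
  rw [sgT_eq] at hts
  simp only [List.mem_cons, List.not_mem_nil, or_false] at hts
  rcases hts with rfl | rfl | rfl | rfl | rfl | rfl <;> exact good_of_letters _

theorem S'_words : ∀ s ∈ S', ∃ ts ∈ sgT, φ s = (ts.map (σ 15 32768 22880)).prod := by
  rintro _ ⟨s, hs, rfl⟩
  simp only [S, Set.mem_insert_iff, Set.mem_singleton_iff] at hs
  rcases hs with rfl | rfl | rfl | rfl | rfl | rfl
  · exact ⟨sgT0, by simp [sgT], by rw [sg0_eq, φ_mk]; rfl⟩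
  · exact ⟨sgT1, by simp [sgT], by rw [sg1_eq, φ_mk]; rfl⟩
  · exact ⟨sgT2, by simp [sgT], by rw [sg2_eq, φ_mk]; rfl⟩
  · exact ⟨sgT3, by simp [sgT], by rw [sg3_eq, φ_mk]; rfl⟩
  · exact ⟨sgT4, by simp [sgT], by rw [sg4_eq, φ_mk]; rfl⟩
  · exact ⟨sgT5, by simp [sgT], by rw [sg5_eq, φ_mk]; rfl⟩

theorem words_S' : ∀ ts ∈ sgT, ∃ s ∈ S', φ s = (ts.map (σ 15 32768 22880)).prod := by
  intro ts hts
  obtain ⟨k, hk, rfl⟩ := List.getElem_of_mem hts
  have hk' : k < 6 := hk
  interval_cases k
  · exact ⟨_, ⟨_, sg0_mem, rfl⟩, by rw [sg0_eq, φ_mk]; rfl⟩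
  · exact ⟨_, ⟨_, sg1_mem, rfl⟩, by rw [sg1_eq, φ_mk]; rfl⟩
  · exact ⟨_, ⟨_, sg2_mem, rfl⟩, by rw [sg2_eq, φ_mk]; rfl⟩
  · exact ⟨_, ⟨_, sg3_mem, rfl⟩, by rw [sg3_eq, φ_mk]; rfl⟩
  · exact ⟨_, ⟨_, sg4_mem, rfl⟩, by rw [sg4_eq, φ_mk]; rfl⟩
  · exact ⟨_, ⟨_, sg5_mem, rfl⟩, by rw [sg5_eq, φ_mk]; rfl⟩

/-- orbit 0 -/
theorem orbit0 : ∃ q : G ⧸ H, ptOf H φ z φ_H q = ⟨7122, by decide⟩ ∧
    ptOf H φ z φ_H '' (MulAction.orbit H q) = {i : Fin 22880 | tb omask0 i = true} ∧
    (MulAction.orbit H q).ncard = 280 := by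
  obtain ⟨g, hg⟩ := φ_trans ⟨7122, by decide⟩
  refine ⟨(g : G ⧸ H), hg, ?_⟩
  have himg : ptOf H φ z φ_H '' (MulAction.orbit H (g : G ⧸ H)) =
      {i : Fin 22880 | tb omask0 i = true} := by
    rw [ptOf_image_orbit, ptOf_mk, hg, H_eq]
    exact orbit_eq_mask' 15 32768 22880 φ S' omask0 hr ⟨7122, by decide⟩ sgT good_sgT S'_words words_S'
      obase0 oclosed0 oconn0
  refine ⟨himg, ?_⟩
  rw [← Set.ncard_image_of_injective _ (ptOf_injective H φ z φ_H index_and_stab.2), himg,
    ncard_mask, ocount0]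

/-- orbit 1 -/
theorem orbit1 : ∃ q : G ⧸ H, ptOf H φ z φ_H q = ⟨1, by decide⟩ ∧
    ptOf H φ z φ_H '' (MulAction.orbit H q) = {i : Fin 22880 | tb omask1 i = true} ∧
    (MulAction.orbit H q).ncard = 486 := by
  obtain ⟨g, hg⟩ := φ_trans ⟨1, by decide⟩
  refine ⟨(g : G ⧸ H), hg, ?_⟩
  have himg : ptOf H φ z φ_H '' (MulAction.orbit H (g : G ⧸ H)) =
      {i : Fin 22880 | tb omask1 i = true} := by
    rw [ptOf_image_orbit, ptOf_mk, hg, H_eq]
    exact orbit_eq_mask' 15 32768 22880 φ S' omask1 hr ⟨1, by decide⟩ sgT good_sgT S'_words words_S'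
      obase1 oclosed1 oconn1
  refine ⟨himg, ?_⟩
  rw [← Set.ncard_image_of_injective _ (ptOf_injective H φ z φ_H index_and_stab.2), himg,
    ncard_mask, ocount1]

/-- orbit 2 -/
theorem orbit2 : ∃ q : G ⧸ H, ptOf H φ z φ_H q = ⟨10, by decide⟩ ∧
    ptOf H φ z φ_H '' (MulAction.orbit H q) = {i : Fin 22880 | tb omask2 i = true} ∧
    (MulAction.orbit H q).ncard = 8505 := by
  obtain ⟨g, hg⟩ := φ_trans ⟨10, by decide⟩
  refine ⟨(g : G ⧸ H), hg, ?_⟩
  have himg : ptOf H φ z φ_H '' (MulAction.orbit H (g : G ⧸ H)) =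
      {i : Fin 22880 | tb omask2 i = true} := by
    rw [ptOf_image_orbit, ptOf_mk, hg, H_eq]
    exact orbit_eq_mask' 15 32768 22880 φ S' omask2 hr ⟨10, by decide⟩ sgT good_sgT S'_words words_S'
      obase2 oclosed2 oconn2
  refine ⟨himg, ?_⟩
  rw [← Set.ncard_image_of_injective _ (ptOf_injective H φ z φ_H index_and_stab.2), himg,
    ncard_mask, ocount2]

/-- orbit 3 -/
theorem orbit3 : ∃ q : G ⧸ H, ptOf H φ z φ_H q = ⟨67, by decide⟩ ∧
    ptOf H φ z φ_H '' (MulAction.orbit H q) = {i : Fin 22880 | tb omask3 i = true} ∧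
    (MulAction.orbit H q).ncard = 13608 := by
  obtain ⟨g, hg⟩ := φ_trans ⟨67, by decide⟩
  refine ⟨(g : G ⧸ H), hg, ?_⟩
  have himg : ptOf H φ z φ_H '' (MulAction.orbit H (g : G ⧸ H)) =
      {i : Fin 22880 | tb omask3 i = true} := by
    rw [ptOf_image_orbit, ptOf_mk, hg, H_eq]
    exact orbit_eq_mask' 15 32768 22880 φ S' omask3 hr ⟨67, by decide⟩ sgT good_sgT S'_words words_S'
      obase3 oclosed3 oconn3
  refine ⟨himg, ?_⟩
  rw [← Set.ncard_image_of_injective _ (ptOf_injective H φ z φ_H index_and_stab.2), himg,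
    ncard_mask, ocount3]

end Cfsg.Agent.Lib.H17.SuzU43b
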