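import Cfsg.Agent.Lib.H17.SuzU43b.Tables

set_option autoImplicit false
set_option maxRecDepth 100000

/-! # Table checks for SuzU43b, part 1 (generated) -/

namespace Cfsg.Agent.Lib.H17.SuzU43b

open Cfsg.Spor Cfsg.Agent.Lib.H17.CosetCert Cfsg.Agent.Lib.H17.CoxGlue Cfsg.Agent.Lib.H17.SuzGlue

theorem rngR8 : tabs.all (fun t => checkRangeG L t 22880 4000 500) = true := by
  decide +kernel

theorem relR8 : relT.all (fun ts => checkWordG L ts 4000 500) = true := by
  decide +kernel

theorem connR8 : checkConnG L gr tabs 4000 500 = true := by
  decide +kernel

theorem rngR9 : tabs.all (fun t => checkRangeG L t 22880 4500 500) = true := by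
  decide +kernel

theorem relR9 : relT.all (fun ts => checkWordG L ts 4500 500) = true := by
  decide +kernel

theorem connR9 : checkConnG L gr tabs 4500 500 = true := by
  decide +kernel

theorem rngR10 : tabs.all (fun t => checkRangeG L t 22880 5000 500) = true := by
  decide +kernel

theorem relR10 : relT.all (fun ts => checkWordG L ts 5000 500) = true := by
  decide +kernel

theorem connR10 : checkConnG L gr tabs 5000 500 = true := by
  decide +kernel

theorem rngR11 : tabs.all (fun t => checkRangeG L t 22880 5500 500) = true := by
  decide +kernel

theorem relR11 : relT.all (fun ts => checkWordG L ts 5500 500) = true := by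
  decide +kernel

theorem connR11 : checkConnG L gr tabs 5500 500 = true := by
  decide +kernel

theorem rngR12 : tabs.all (fun t => checkRangeG L t 22880 6000 500) = true := by
  decide +kernel

theorem relR12 : relT.all (fun ts => checkWordG L ts 6000 500) = true := by
  decide +kernel

theorem connR12 : checkConnG L gr tabs 6000 500 = true := by
  decide +kernel

theorem rngR13 : tabs.all (fun t => checkRangeG L t 22880 6500 500) = true := by
  decide +kernel

theorem relR13 : relT.all (fun ts => checkWordG L ts 6500 500) = true := by
  decide +kernel

theorem connR13 : checkConnG L gr tabs 6500 500 = true := by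
  decide +kernel

theorem rngR14 : tabs.all (fun t => checkRangeG L t 22880 7000 500) = true := by
  decide +kernel

theorem relR14 : relT.all (fun ts => checkWordG L ts 7000 500) = true := by
  decide +kernel

theorem connR14 : checkConnG L gr tabs 7000 500 = true := by
  decide +kernel

theorem rngR15 : tabs.all (fun t => checkRangeG L t 22880 7500 500) = true := by
  decide +kernel

theorem relR15 : relT.all (fun ts => checkWordG L ts 7500 500) = true := by
  decide +kernel

theorem connR15 : checkConnG L gr tabs 7500 500 = true := by
  decide +kernel

end Cfsg.Agent.Lib.H17.SuzU43b
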