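import Cfsg.Agent.Lib.H17.SuzU43b.Tables

set_option autoImplicit false
set_option maxRecDepth 100000

/-! # Table checks for SuzU43b, part 3 (generated) -/

namespace Cfsg.Agent.Lib.H17.SuzU43b

open Cfsg.Spor Cfsg.Agent.Lib.H17.CosetCert Cfsg.Agent.Lib.H17.CoxGlue Cfsg.Agent.Lib.H17.SuzGlue

theorem rngR24 : tabs.all (fun t => checkRangeG L t 22880 12000 500) = true := by
  decide +kernel

theorem relR24 : relT.all (fun ts => checkWordG L ts 12000 500) = true := by
  decide +kernel

theorem connR24 : checkConnG L gr tabs 12000 500 = true := by
  decide +kernel

theorem rngR25 : tabs.all (fun t => checkRangeG L t 22880 12500 500) = true := by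
  decide +kernel

theorem relR25 : relT.all (fun ts => checkWordG L ts 12500 500) = true := by
  decide +kernel

theorem connR25 : checkConnG L gr tabs 12500 500 = true := by
  decide +kernel

theorem rngR26 : tabs.all (fun t => checkRangeG L t 22880 13000 500) = true := by
  decide +kernel

theorem relR26 : relT.all (fun ts => checkWordG L ts 13000 500) = true := by
  decide +kernel

theorem connR26 : checkConnG L gr tabs 13000 500 = true := by
  decide +kernel

theorem rngR27 : tabs.all (fun t => checkRangeG L t 22880 13500 500) = true := by
  decide +kernel

theorem relR27 : relT.all (fun ts => checkWordG L ts 13500 500) = true := by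
  decide +kernel

theorem connR27 : checkConnG L gr tabs 13500 500 = true := by
  decide +kernel

theorem rngR28 : tabs.all (fun t => checkRangeG L t 22880 14000 500) = true := by
  decide +kernel

theorem relR28 : relT.all (fun ts => checkWordG L ts 14000 500) = true := by
  decide +kernel

theorem connR28 : checkConnG L gr tabs 14000 500 = true := by
  decide +kernel

theorem rngR29 : tabs.all (fun t => checkRangeG L t 22880 14500 500) = true := by
  decide +kernel

theorem relR29 : relT.all (fun ts => checkWordG L ts 14500 500) = true := by
  decide +kernel

theorem connR29 : checkConnG L gr tabs 14500 500 = true := by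
  decide +kernel

theorem rngR30 : tabs.all (fun t => checkRangeG L t 22880 15000 500) = true := by
  decide +kernel

theorem relR30 : relT.all (fun ts => checkWordG L ts 15000 500) = true := by
  decide +kernel

theorem connR30 : checkConnG L gr tabs 15000 500 = true := by
  decide +kernel

theorem rngR31 : tabs.all (fun t => checkRangeG L t 22880 15500 500) = true := by
  decide +kernel

theorem relR31 : relT.all (fun ts => checkWordG L ts 15500 500) = true := by
  decide +kernel

theorem connR31 : checkConnG L gr tabs 15500 500 = true := by
  decide +kernel

end Cfsg.Agent.Lib.H17.SuzU43b
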