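import Cfsg.Agent.Lib.H17.SuzU43b.Tables

set_option autoImplicit false
set_option maxRecDepth 100000

/-! # Table checks for SuzU43b, part 4 (generated) -/

namespace Cfsg.Agent.Lib.H17.SuzU43b

open Cfsg.Spor Cfsg.Agent.Lib.H17.CosetCert Cfsg.Agent.Lib.H17.CoxGlue Cfsg.Agent.Lib.H17.SuzGlue

theorem rngR32 : tabs.all (fun t => checkRangeG L t 22880 16000 500) = true := by
  decide +kernel

theorem relR32 : relT.all (fun ts => checkWordG L ts 16000 500) = true := by
  decide +kernel

theorem connR32 : checkConnG L gr tabs 16000 500 = true := by
  decide +kernel

theorem rngR33 : tabs.all (fun t => checkRangeG L t 22880 16500 500) = true := by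
  decide +kernel

theorem relR33 : relT.all (fun ts => checkWordG L ts 16500 500) = true := by
  decide +kernel

theorem connR33 : checkConnG L gr tabs 16500 500 = true := by
  decide +kernel

theorem rngR34 : tabs.all (fun t => checkRangeG L t 22880 17000 500) = true := by
  decide +kernel

theorem relR34 : relT.all (fun ts => checkWordG L ts 17000 500) = true := by
  decide +kernel

theorem connR34 : checkConnG L gr tabs 17000 500 = true := by
  decide +kernel

theorem rngR35 : tabs.all (fun t => checkRangeG L t 22880 17500 500) = true := by
  decide +kernel

theorem relR35 : relT.all (fun ts => checkWordG L ts 17500 500) = true := by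
  decide +kernel

theorem connR35 : checkConnG L gr tabs 17500 500 = true := by
  decide +kernel

theorem rngR36 : tabs.all (fun t => checkRangeG L t 22880 18000 500) = true := by
  decide +kernel

theorem relR36 : relT.all (fun ts => checkWordG L ts 18000 500) = true := by
  decide +kernel

theorem connR36 : checkConnG L gr tabs 18000 500 = true := by
  decide +kernel

theorem rngR37 : tabs.all (fun t => checkRangeG L t 22880 18500 500) = true := by
  decide +kernel

theorem relR37 : relT.all (fun ts => checkWordG L ts 18500 500) = true := by
  decide +kernel

theorem connR37 : checkConnG L gr tabs 18500 500 = true := by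
  decide +kernel

theorem rngR38 : tabs.all (fun t => checkRangeG L t 22880 19000 500) = true := by
  decide +kernel

theorem relR38 : relT.all (fun ts => checkWordG L ts 19000 500) = true := by
  decide +kernel

theorem connR38 : checkConnG L gr tabs 19000 500 = true := by
  decide +kernel

theorem rngR39 : tabs.all (fun t => checkRangeG L t 22880 19500 500) = true := by
  decide +kernel

theorem relR39 : relT.all (fun ts => checkWordG L ts 19500 500) = true := by
  decide +kernel

theorem connR39 : checkConnG L gr tabs 19500 500 = true := by
  decide +kernel

end Cfsg.Agent.Lib.H17.SuzU43b
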