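import Cfsg.Agent.Lib.H17.SuzU43b.Tables

set_option autoImplicit false
set_option maxRecDepth 100000

/-! # Table checks for SuzU43b, part 5 (generated) -/

namespace Cfsg.Agent.Lib.H17.SuzU43b

open Cfsg.Spor Cfsg.Agent.Lib.H17.CosetCert Cfsg.Agent.Lib.H17.CoxGlue Cfsg.Agent.Lib.H17.SuzGlue

theorem rngR40 : tabs.all (fun t => checkRangeG L t 22880 20000 500) = true := by
  decide +kernel

theorem relR40 : relT.all (fun ts => checkWordG L ts 20000 500) = true := by
  decide +kernel

theorem connR40 : checkConnG L gr tabs 20000 500 = true := by
  decide +kernel

theorem rngR41 : tabs.all (fun t => checkRangeG L t 22880 20500 500) = true := by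
  decide +kernel

theorem relR41 : relT.all (fun ts => checkWordG L ts 20500 500) = true := by
  decide +kernel

theorem connR41 : checkConnG L gr tabs 20500 500 = true := by
  decide +kernel

theorem rngR42 : tabs.all (fun t => checkRangeG L t 22880 21000 500) = true := by
  decide +kernel

theorem relR42 : relT.all (fun ts => checkWordG L ts 21000 500) = true := by
  decide +kernel

theorem connR42 : checkConnG L gr tabs 21000 500 = true := by
  decide +kernel

theorem rngR43 : tabs.all (fun t => checkRangeG L t 22880 21500 500) = true := by
  decide +kernel

theorem relR43 : relT.all (fun ts => checkWordG L ts 21500 500) = true := by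
  decide +kernel

theorem connR43 : checkConnG L gr tabs 21500 500 = true := by
  decide +kernel

theorem rngR44 : tabs.all (fun t => checkRangeG L t 22880 22000 500) = true := by
  decide +kernel

theorem relR44 : relT.all (fun ts => checkWordG L ts 22000 500) = true := by
  decide +kernel

theorem connR44 : checkConnG L gr tabs 22000 500 = true := by
  decide +kernel

theorem rngR45 : tabs.all (fun t => checkRangeG L t 22880 22500 380) = true := by
  decide +kernel

theorem relR45 : relT.all (fun ts => checkWordG L ts 22500 380) = true := by
  decide +kernel

theorem connR45 : checkConnG L gr tabs 22500 380 = true := by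
  decide +kernel

end Cfsg.Agent.Lib.H17.SuzU43b
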