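import Cfsg.Agent.Lib.H17.SuzU43b.StepsA
import Cfsg.Agent.Lib.H17.SuzU43b.StepsB
import Cfsg.Agent.Lib.H17.SuzU43b.StepsC
import Cfsg.Agent.Lib.H17.SuzU43b.StepsD
import Cfsg.Agent.Lib.H17.SuzU43b.StepsE
import Cfsg.Agent.Lib.H17.SuzU43b.Rows

set_option autoImplicit false
set_option maxRecDepth 100000

/-! # Upper bound for the index, SuzU43b (generated) -/

namespace Cfsg.Agent.Lib.H17.SuzU43b

open Cfsg.Spor Cfsg.Agent.Lib.H17.CosetCert Cfsg.Agent.Lib.H17.CoxGlue Cfsg.Agent.Lib.H17.SuzGlue

/-- the presented group -/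
abbrev G : Type := PresentedGroup rels

/-- the subgroup generators as words -/
abbrev S : Set (FreeGroup Gen) :=
  {Cfsg.Spor.Suz.a, Cfsg.Spor.Suz.b, Cfsg.Spor.Suz.c, Cfsg.Spor.Suz.d, Cfsg.Spor.Suz.f, Cfsg.Spor.Suz.g}

/-- the subgroup -/
abbrev H : Subgroup G := (Subgroup.closure S).map (PresentedGroup.mk rels)

/-- the generator images -/
noncomputable def γ (x : ℕ) : G := PresentedGroup.of (gen x)

theorem γ_mul_self (x : ℕ) : γ x * γ x = 1 := of_mul_self _

/-- letters of subgroup generator 0 -/
def sgL0 : List (Gen × Bool) := [(.a, true)]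

theorem sg0_eq : (Cfsg.Spor.Suz.a : FreeGroup Gen) = FreeGroup.mk sgL0 := by rfl

theorem sg0_mem : (Cfsg.Spor.Suz.a : FreeGroup Gen) ∈ S := by
  simp [S]

/-- letters of subgroup generator 1 -/
def sgL1 : List (Gen × Bool) := [(.b, true)]

theorem sg1_eq : (Cfsg.Spor.Suz.b : FreeGroup Gen) = FreeGroup.mk sgL1 := by rfl

theorem sg1_mem : (Cfsg.Spor.Suz.b : FreeGroup Gen) ∈ S := by
  simp [S]

/-- letters of subgroup generator 2 -/
def sgL2 : List (Gen × Bool) := [(.c, true)]

theorem sg2_eq : (Cfsg.Spor.Suz.c : FreeGroup Gen) = FreeGroup.mk sgL2 := by rfl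

theorem sg2_mem : (Cfsg.Spor.Suz.c : FreeGroup Gen) ∈ S := by
  simp [S]

/-- letters of subgroup generator 3 -/
def sgL3 : List (Gen × Bool) := [(.d, true)]

theorem sg3_eq : (Cfsg.Spor.Suz.d : FreeGroup Gen) = FreeGroup.mk sgL3 := by rfl

theorem sg3_mem : (Cfsg.Spor.Suz.d : FreeGroup Gen) ∈ S := by
  simp [S]

/-- letters of subgroup generator 4 -/
def sgL4 : List (Gen × Bool) := [(.f, true)]

theorem sg4_eq : (Cfsg.Spor.Suz.f : FreeGroup Gen) = FreeGroup.mk sgL4 := by rfl

theorem sg4_mem : (Cfsg.Spor.Suz.f : FreeGroup Gen) ∈ S := by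
  simp [S]

/-- letters of subgroup generator 5 -/
def sgL5 : List (Gen × Bool) := [(.g, true)]

theorem sg5_eq : (Cfsg.Spor.Suz.g : FreeGroup Gen) = FreeGroup.mk sgL5 := by rfl

theorem sg5_mem : (Cfsg.Spor.Suz.g : FreeGroup Gen) ∈ S := by
  simp [S]

theorem mk_mk (L : List (Gen × Bool)) : PresentedGroup.mk rels (FreeGroup.mk L) =
    ((L.map Prod.fst).map (PresentedGroup.of (rels := rels))).prod := by
  rw [mk_eq_lift, lift_mk_of_invol _ of_mul_self]

theorem sgW_mem : ∀ v ∈ sgW, (v.map γ).prod ∈ H := by
  intro v hv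
  obtain ⟨t, ht, rfl⟩ := List.getElem_of_mem hv
  have ht' : t < 6 := ht
  interval_cases t
  · have h1 : PresentedGroup.mk rels (FreeGroup.mk sgL0) ∈ H :=
      Subgroup.mem_map_of_mem _ (Subgroup.subset_closure (sg0_eq ▸ sg0_mem))
    rw [mk_mk] at h1
    exact h1
  · have h1 : PresentedGroup.mk rels (FreeGroup.mk sgL1) ∈ H :=
      Subgroup.mem_map_of_mem _ (Subgroup.subset_closure (sg1_eq ▸ sg1_mem))
    rw [mk_mk] at h1
    exact h1
  · have h1 : PresentedGroup.mk rels (FreeGroup.mk sgL2) ∈ H :=
      Subgroup.mem_map_of_mem _ (Subgroup.subset_closure (sg2_eq ▸ sg2_mem))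
    rw [mk_mk] at h1
    exact h1
  · have h1 : PresentedGroup.mk rels (FreeGroup.mk sgL3) ∈ H :=
      Subgroup.mem_map_of_mem _ (Subgroup.subset_closure (sg3_eq ▸ sg3_mem))
    rw [mk_mk] at h1
    exact h1
  · have h1 : PresentedGroup.mk rels (FreeGroup.mk sgL4) ∈ H :=
      Subgroup.mem_map_of_mem _ (Subgroup.subset_closure (sg4_eq ▸ sg4_mem))
    rw [mk_mk] at h1
    exact h1
  · have h1 : PresentedGroup.mk rels (FreeGroup.mk sgL5) ∈ H :=
      Subgroup.mem_map_of_mem _ (Subgroup.subset_closure (sg5_eq ▸ sg5_mem))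
    rw [mk_mk] at h1
    exact h1

theorem words_OK : WordsOK γ ((1 : G) : G ⧸ H) words := by
  intro v hv
  obtain ⟨h1, h2⟩ := words_ok v hv
  constructor
  · intro hr q
    apply act_eq_of_prod_eq_one γ γ_mul_self
    have := relW_trivial _ (h1 hr)
    rw [List.map_map] at this
    exact this
  · intro hr
    have hmem := sgW_mem _ (h2 hr)
    rw [act_eq_smul, prod_reverse_of_invol γ γ_mul_self]
    have hinvmem : ((v.1.map γ).prod)⁻¹ ∈ H := inv_mem hmem
    rw [MulAction.Quotient.smul_mk, smul_eq_mul, mul_one]
    apply Quotient.sound'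
    rw [QuotientGroup.leftRel_apply]
    simpa using hmem

theorem inv_all : Inv F 7 γ ((1 : G) : G ⧸ H) 95237 27437 := by
  have h0 := inv_zero F 7 γ ((1 : G) : G ⧸ H)
  have h1 := checkSteps_sound F 7 16777216 γ γ_mul_self _ words words_OK steps0 0 1 789 h0 chk0
  rw [len0] at h1
  have h2 := checkSteps_sound F 7 16777216 γ γ_mul_self _ words words_OK steps1 2000 789 1711 h1 chk1
  rw [len1] at h2
  have h3 := checkSteps_sound F 7 16777216 γ γ_mul_self _ words words_OK steps2 4000 1711 2648 h2 chk2
  rw [len2] at h3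
  have h4 := checkSteps_sound F 7 16777216 γ γ_mul_self _ words words_OK steps3 6000 2648 3566 h3 chk3
  rw [len3] at h4
  have h5 := checkSteps_sound F 7 16777216 γ γ_mul_self _ words words_OK steps4 8000 3566 4501 h4 chk4
  rw [len4] at h5
  have h6 := checkSteps_sound F 7 16777216 γ γ_mul_self _ words words_OK steps5 10000 4501 5321 h5 chk5
  rw [len5] at h6
  have h7 := checkSteps_sound F 7 16777216 γ γ_mul_self _ words words_OK steps6 12000 5321 5336 h6 chk6
  rw [len6] at h7
  have h8 := checkSteps_sound F 7 16777216 γ γ_mul_self _ words words_OK steps7 14000 5336 6016 h7 chk7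
  rw [len7] at h8
  have h9 := checkSteps_sound F 7 16777216 γ γ_mul_self _ words words_OK steps8 16000 6016 6796 h8 chk8
  rw [len8] at h9
  have h10 := checkSteps_sound F 7 16777216 γ γ_mul_self _ words words_OK steps9 18000 6796 7573 h9 chk9
  rw [len9] at h10
  have h11 := checkSteps_sound F 7 16777216 γ γ_mul_self _ words words_OK steps10 20000 7573 8406 h10 chk10
  rw [len10] at h11
  have h12 := checkSteps_sound F 7 16777216 γ γ_mul_self _ words words_OK steps11 22000 8406 9241 h11 chk11
  rw [len11] at h12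
  have h13 := checkSteps_sound F 7 16777216 γ γ_mul_self _ words words_OK steps12 24000 9241 10008 h12 chk12
  rw [len12] at h13
  have h14 := checkSteps_sound F 7 16777216 γ γ_mul_self _ words words_OK steps13 26000 10008 10849 h13 chk13
  rw [len13] at h14
  have h15 := checkSteps_sound F 7 16777216 γ γ_mul_self _ words words_OK steps14 28000 10849 11407 h14 chk14
  rw [len14] at h15
  have h16 := checkSteps_sound F 7 16777216 γ γ_mul_self _ words words_OK steps15 30000 11407 12249 h15 chk15
  rw [len15] at h16
  have h17 := checkSteps_sound F 7 16777216 γ γ_mul_self _ words words_OK steps16 32000 12249 12720 h16 chk16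
  rw [len16] at h17
  have h18 := checkSteps_sound F 7 16777216 γ γ_mul_self _ words words_OK steps17 34000 12720 13284 h17 chk17
  rw [len17] at h18
  have h19 := checkSteps_sound F 7 16777216 γ γ_mul_self _ words words_OK steps18 36000 13284 13673 h18 chk18
  rw [len18] at h19
  have h20 := checkSteps_sound F 7 16777216 γ γ_mul_self _ words words_OK steps19 38000 13673 14253 h19 chk19
  rw [len19] at h20
  have h21 := checkSteps_sound F 7 16777216 γ γ_mul_self _ words words_OK steps20 40000 14253 14889 h20 chk20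
  rw [len20] at h21
  have h22 := checkSteps_sound F 7 16777216 γ γ_mul_self _ words words_OK steps21 42000 14889 15353 h21 chk21
  rw [len21] at h22
  have h23 := checkSteps_sound F 7 16777216 γ γ_mul_self _ words words_OK steps22 44000 15353 15981 h22 chk22
  rw [len22] at h23
  have h24 := checkSteps_sound F 7 16777216 γ γ_mul_self _ words words_OK steps23 46000 15981 16557 h23 chk23
  rw [len23] at h24
  have h25 := checkSteps_sound F 7 16777216 γ γ_mul_self _ words words_OK steps24 48000 16557 17063 h24 chk24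
  rw [len24] at h25
  have h26 := checkSteps_sound F 7 16777216 γ γ_mul_self _ words words_OK steps25 50000 17063 17608 h25 chk25
  rw [len25] at h26
  have h27 := checkSteps_sound F 7 16777216 γ γ_mul_self _ words words_OK steps26 52000 17608 18136 h26 chk26
  rw [len26] at h27
  have h28 := checkSteps_sound F 7 16777216 γ γ_mul_self _ words words_OK steps27 54000 18136 18672 h27 chk27
  rw [len27] at h28
  have h29 := checkSteps_sound F 7 16777216 γ γ_mul_self _ words words_OK steps28 56000 18672 19244 h28 chk28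
  rw [len28] at h29
  have h30 := checkSteps_sound F 7 16777216 γ γ_mul_self _ words words_OK steps29 58000 19244 19769 h29 chk29
  rw [len29] at h30
  have h31 := checkSteps_sound F 7 16777216 γ γ_mul_self _ words words_OK steps30 60000 19769 20372 h30 chk30
  rw [len30] at h31
  have h32 := checkSteps_sound F 7 16777216 γ γ_mul_self _ words words_OK steps31 62000 20372 20908 h31 chk31
  rw [len31] at h32
  have h33 := checkSteps_sound F 7 16777216 γ γ_mul_self _ words words_OK steps32 64000 20908 21369 h32 chk32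
  rw [len32] at h33
  have h34 := checkSteps_sound F 7 16777216 γ γ_mul_self _ words words_OK steps33 66000 21369 21920 h33 chk33
  rw [len33] at h34
  have h35 := checkSteps_sound F 7 16777216 γ γ_mul_self _ words words_OK steps34 68000 21920 22400 h34 chk34
  rw [len34] at h35
  have h36 := checkSteps_sound F 7 16777216 γ γ_mul_self _ words words_OK steps35 70000 22400 22900 h35 chk35
  rw [len35] at h36
  have h37 := checkSteps_sound F 7 16777216 γ γ_mul_self _ words words_OK steps36 72000 22900 23432 h36 chk36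
  rw [len36] at h37
  have h38 := checkSteps_sound F 7 16777216 γ γ_mul_self _ words words_OK steps37 74000 23432 23957 h37 chk37
  rw [len37] at h38
  have h39 := checkSteps_sound F 7 16777216 γ γ_mul_self _ words words_OK steps38 76000 23957 24423 h38 chk38
  rw [len38] at h39
  have h40 := checkSteps_sound F 7 16777216 γ γ_mul_self _ words words_OK steps39 78000 24423 24881 h39 chk39
  rw [len39] at h40
  have h41 := checkSteps_sound F 7 16777216 γ γ_mul_self _ words words_OK steps40 80000 24881 25312 h40 chk40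
  rw [len40] at h41
  have h42 := checkSteps_sound F 7 16777216 γ γ_mul_self _ words words_OK steps41 82000 25312 25779 h41 chk41
  rw [len41] at h42
  have h43 := checkSteps_sound F 7 16777216 γ γ_mul_self _ words words_OK steps42 84000 25779 26242 h42 chk42
  rw [len42] at h43
  have h44 := checkSteps_sound F 7 16777216 γ γ_mul_self _ words words_OK steps43 86000 26242 26638 h43 chk43
  rw [len43] at h44
  have h45 := checkSteps_sound F 7 16777216 γ γ_mul_self _ words words_OK steps44 88000 26638 27038 h44 chk44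
  rw [len44] at h45
  have h46 := checkSteps_sound F 7 16777216 γ γ_mul_self _ words words_OK steps45 90000 27038 27413 h45 chk45
  rw [len45] at h46
  have h47 := checkSteps_sound F 7 16777216 γ γ_mul_self _ words words_OK steps46 92000 27413 27437 h46 chk46
  rw [len46] at h47
  have h48 := checkSteps_sound F 7 16777216 γ γ_mul_self _ words words_OK steps47 94000 27437 27437 h47 chk47
  rw [len47] at h48
  exact h48

theorem gens_top : Subgroup.closure {g : G | ∃ x < 7, g = γ x} = ⊤ := closure_gens

theorem upper : Finite (G ⧸ H) ∧ Nat.card (G ⧸ H) ≤ 22880 := by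
  have := card_le F 7 16777216 γ γ_mul_self _ 95237 27437 inv_all rows mask mask_ok mask_zero rows_ok gens_top
  rw [rows_length] at this
  exact this

end Cfsg.Agent.Lib.H17.SuzU43b
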